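import Cfsg.Agent.Lib.Fusion.Jordan
import Mathlib.GroupTheory.Perm.Centralizer
import Mathlib.GroupTheory.SpecificGroups.Alternating
import Mathlib.GroupTheory.SpecificGroups.Cyclic
import Mathlib.Tactic.NormNum.Prime

/-!
Permutations of 11 points of order 11, their normalisers, and involutions commuting with elements of
order 5.
-/

set_option autoImplicit false
set_option linter.style.haveILetI false

namespace Cfsg.Lib.DegreeEleven

open Equiv Equiv.Perm MulAction

variable {α : Type*} [Fintype α] [DecidableEq α]

theorem cycleType_eleven (hα : Fintype.card α = 11) {x : Perm α} (hx : orderOf x = 11) :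
    x.cycleType = {11} ∧ x.IsCycle ∧ ∀ a, a ∈ x.support := by
  obtain ⟨n, hn⟩ := cycleType_prime_order (σ := x) (by rw [hx]; norm_num)
  rw [hx] at hn
  have hs : x.support.card = (n + 1) * 11 := by
    rw [← sum_cycleType, hn, Multiset.sum_replicate, smul_eq_mul]
  have hle := x.support.card_le_univ
  obtain rfl : n = 0 := by omega
  refine ⟨hn, card_cycleType_eq_one.mp (by rw [hn]; simp), fun a => ?_⟩
  rw [Finset.eq_univ_of_card _ (show x.support.card = Fintype.card α by omega)]
  exact Finset.mem_univ a

theorem sign_eleven (hα : Fintype.card α = 11) {x : Perm α} (hx : orderOf x = 11) : sign x = 1 := by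
  rw [sign_of_cycleType, (cycleType_eleven hα hx).1]
  decide

theorem centralizer_eleven (hα : Fintype.card α = 11) {x : Perm α} (hx : orderOf x = 11) :
    Subgroup.centralizer ({x} : Set (Perm α)) = Subgroup.zpowers x := by
  refine (Subgroup.eq_of_le_of_card_ge ?_ ?_).symm
  · rw [Subgroup.zpowers_le, Subgroup.mem_centralizer_singleton_iff]
  · rw [Nat.card_zpowers, hx, nat_card_centralizer, (cycleType_eleven hα hx).1, hα]
    exact le_of_eq rfl

/-- The normaliser of a subgroup of order 11 has order dividing 110. -/
theorem card_normalizer_dvd (hα : Fintype.card α = 11) {x : Perm α} (hx : orderOf x = 11) :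
    Nat.card (Subgroup.normalizer ((Subgroup.zpowers x : Subgroup (Perm α)) : Set (Perm α))) ∣ 110 := by
  set P := Subgroup.zpowers x with hP
  set f := P.normalizerMonoidHom with hf
  have hk : f.ker = (Subgroup.centralizer (P : Set (Perm α))).subgroupOf _ := P.normalizerMonoidHom_ker
  have h1 : f.ker.index ∣ 10 := by
    rw [Subgroup.index_ker]
    refine (Subgroup.card_subgroup_dvd_card _).trans (dvd_of_eq ?_)
    rw [IsCyclic.card_mulAut, hP, Nat.card_zpowers, hx, Nat.totient_prime (by norm_num)]
  have h2 : Nat.card f.ker = 11 := by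
    rw [hk, Nat.card_congr (Subgroup.subgroupOfEquivOfLe (Subgroup.centralizer_le_normalizer _)).toEquiv,
      hP, Subgroup.centralizer_eq_iInf, Subgroup.zpowers_eq_closure, ← Subgroup.centralizer_eq_iInf,
      Subgroup.centralizer_closure, centralizer_eleven hα hx, Nat.card_zpowers, hx]
  rw [← Subgroup.card_mul_index f.ker, h2]
  exact (Nat.mul_dvd_mul_left 11 h1).trans (dvd_of_eq rfl)

theorem orderTwo_support {t : Perm α} (ht : orderOf t = 2) :
    ∃ k : ℕ, t.support.card = 2 * (k + 1) ∧ t.cycleType = Multiset.replicate (k + 1) 2 := by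
  obtain ⟨k, hk⟩ := cycleType_prime_order (σ := t) (by rw [ht]; norm_num)
  rw [ht] at hk
  exact ⟨k, by rw [← sum_cycleType, hk, Multiset.sum_replicate, smul_eq_mul]; ring, hk⟩

/-- An involution inverting an element of order 11 is odd with one fixed point. -/
theorem inverting_eleven (hα : Fintype.card α = 11) {x s : Perm α} (hx : orderOf x = 11)
    (hs : orderOf s = 2) (h : s * x * s⁻¹ = x⁻¹) :
    sign s = -1 ∧ s.support.card = 10 := by
  obtain ⟨-, hxc, hxs⟩ := cycleType_eleven hα hx
  have hfix : ∀ p q, s p = p → s q = q → p = q := by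
    intro p q hp hq
    obtain ⟨i, hi⟩ := hxc.exists_pow_eq (mem_support.1 (hxs p)) (mem_support.1 (hxs q))
    have e : s * x ^ i = (x⁻¹) ^ i * s := by
      rw [← h, conj_pow, inv_mul_cancel_right]
    have h2 : (x⁻¹) ^ i • p = q := by
      have := DFunLike.congr_fun e p
      rw [Perm.mul_apply, Perm.mul_apply, hi, hq, hp] at this
      exact this.symm
    have h3 : (x ^ (2 * i)) p = p := by
      have h4 : (x ^ i) q = p := by
        rw [← h2, inv_pow]
        exact (x ^ i).apply_symm_apply p
      rw [two_mul, pow_add, Perm.mul_apply, hi, h4]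
    have h5 : x ^ (2 * i) = 1 := hxc.pow_eq_one_iff.2 ⟨p, mem_support.1 (hxs p), h3⟩
    have h6 : 11 ∣ i := (Nat.Coprime.dvd_mul_left (by norm_num)).1 (hx ▸ orderOf_dvd_of_pow_eq_one h5)
    have h7 : x ^ i = 1 := orderOf_dvd_iff_pow_eq_one.1 (by rw [hx]; exact h6)
    rw [← hi, h7, Perm.one_apply]
  obtain ⟨k, hk, hct⟩ := orderTwo_support hs
  have hc : (s.supportᶜ).card ≤ 1 := Finset.card_le_one.2 fun p hp q hq => hfix p q
    (by simpa using hp) (by simpa using hq)
  rw [Finset.card_compl, hα] at hc
  have hle := s.support.card_le_univ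
  obtain rfl : k = 4 := by omega
  exact ⟨by rw [sign_of_cycleType, hct]; decide, by omega⟩

/-- An involution commuting with a product of two 5-cycles is odd. -/
theorem commuting_five (hα : Fintype.card α = 11) {q t : Perm α} (hq5 : orderOf q = 5)
    (hq : q.support.card = 10) (ht : orderOf t = 2) (h : Commute q t) :
    sign t = -1 ∧ t.support.card = 10 := by
  obtain ⟨a, ha⟩ := Finset.card_eq_one.1 (show (q.supportᶜ).card = 1 by rw [Finset.card_compl]; omega)
  have hta : t a = a := by
    have hqa : q a = a := by
      have : a ∈ q.supportᶜ := by rw [ha]; simp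
      simpa using this
    have : q (t a) = t a := by
      rw [show q (t a) = (q * t) a from rfl, h.eq, Perm.mul_apply, hqa]
    have h' : t a ∈ q.supportᶜ := by simpa using this
    rw [ha] at h'
    simpa using h'
  have hsub : t.support ⊆ q.support := fun b hb => by
    by_contra hb'
    have : b ∈ q.supportᶜ := by simpa using hb'
    rw [ha, Finset.mem_singleton] at this
    exact mem_support.1 hb (this ▸ hta)
  have hinv : ∀ b, q b ∈ t.support ↔ b ∈ t.support := fun b => by
    rw [mem_support, mem_support, show t (q b) = (t * q) b from rfl, ← h.eq, Perm.mul_apply]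
    exact q.injective.ne_iff
  set y := q.subtypePerm (p := fun b => b ∈ t.support) hinv with hy
  have hy5 : y ^ 5 = 1 := by
    rw [hy, subtypePerm_pow]
    refine Equiv.ext fun b => Subtype.ext ?_
    show (q ^ 5) b.1 = b.1
    rw [orderOf_dvd_iff_pow_eq_one.1 (dvd_of_eq hq5), Perm.one_apply]
  have hys : y.support = Finset.univ := Finset.eq_univ_iff_forall.2 fun b => by
    rw [mem_support, hy]
    exact fun e => mem_support.1 (hsub b.2) (congrArg Subtype.val e)
  obtain ⟨k, hk, hct⟩ := orderTwo_support ht
  haveI : Fact (Nat.Prime 5) := ⟨by norm_num⟩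
  have h5 : 5 ∣ t.support.card := by
    have := y.card_compl_support_modEq (p := 5) (n := 1) (by rw [pow_one]; exact hy5)
    rw [hys, Finset.compl_univ, Finset.card_empty, Fintype.card_coe] at this
    exact Nat.modEq_zero_iff_dvd.1 this.symm
  have hle := Finset.card_le_card hsub
  obtain rfl : k = 4 := by omega
  exact ⟨by rw [sign_of_cycleType, hct]; decide, by omega⟩

end Cfsg.Lib.DegreeEleven
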