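import Cfsg.Agent.Lib.DegreeEleven.Elements
import Cfsg.Agent.Lib.Small.SimpleOrder
import Mathlib.GroupTheory.Solvable

/-!
Insoluble transitive groups of even permutations of degree 11 other than the alternating group are
simple of order 660 or 7920.
-/

set_option autoImplicit false
set_option linter.style.haveILetI false

namespace Cfsg.Lib.DegreeEleven

open Equiv Equiv.Perm MulAction

variable {α : Type*} [Fintype α] [DecidableEq α]

theorem preprimitive (hα : Fintype.card α = 11) (K : Subgroup (Perm α)) [IsPretransitive K α] :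
    IsPreprimitive K α :=
  IsPreprimitive.of_prime_card (by rw [Nat.card_eq_fintype_card, hα]; norm_num)

theorem eleven_dvd (hα : Fintype.card α = 11) (K : Subgroup (Perm α)) [IsPretransitive K α] :
    11 ∣ Nat.card K := by
  obtain ⟨a⟩ : Nonempty α := Fintype.card_pos_iff.1 (by omega)
  have h := (MulAction.stabilizer K a).index_dvd_card
  rwa [index_stabilizer_of_transitive, Nat.card_eq_fintype_card, hα] at h

theorem card_dvd_factorial (hα : Fintype.card α = 11) (K : Subgroup (Perm α)) :
    Nat.card K ∣ 39916800 := by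
  refine (Subgroup.card_subgroup_dvd_card K).trans (dvd_of_eq ?_)
  rw [Nat.card_perm, Nat.card_eq_fintype_card, hα]
  rfl

/-- A nontrivial normal subgroup of a transitive group of degree 11 is transitive. -/
theorem normal_transitive (hα : Fintype.card α = 11) (K : Subgroup (Perm α)) [IsPretransitive K α]
    (M : Subgroup K) [M.Normal] (hM : M ≠ ⊥) : IsPretransitive (M.map K.subtype) α := by
  haveI := preprimitive hα K
  haveI hMt : IsPretransitive M α := by
    refine IsQuasiPreprimitive.isPretransitive_of_normal fun h => hM ?_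
    refine (Subgroup.eq_bot_iff_forall M).2 fun m hm => Subtype.ext (Equiv.ext fun a => ?_)
    have : a ∈ MulAction.fixedPoints M α := by rw [h]; trivial
    exact this ⟨m, hm⟩
  exact ⟨fun a b => by
    obtain ⟨m, hm⟩ := exists_smul_eq M a b
    exact ⟨⟨_, Subgroup.mem_map_of_mem K.subtype m.2⟩, hm⟩⟩

theorem sylow_facts (hα : Fintype.card α = 11) (K : Subgroup (Perm α)) [IsPretransitive K α]
    [Fact (Nat.Prime 11)] (P : Sylow 11 K) :
    Nat.card (P : Subgroup K) = 11 ∧ ∃ x : Perm α, orderOf x = 11 ∧
      (P : Subgroup K).map K.subtype = Subgroup.zpowers x := by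
  obtain ⟨m, hm⟩ := eleven_dvd hα K
  have h11 : ¬ 11 ∣ m := fun h => by
    obtain ⟨r, hr⟩ := h
    have := card_dvd_factorial hα K
    rw [hm, hr, ← mul_assoc] at this
    exact absurd ((dvd_mul_right _ _).trans this) (by norm_num)
  have hP : Nat.card (P : Subgroup K) = 11 := by
    rw [Small.card_sylow 1 m (by rw [hm, pow_one]) h11 P, pow_one]
  obtain ⟨x, hx⟩ := exists_prime_orderOf_dvd_card' (G := (P : Subgroup K)) 11 (by rw [hP])
  have hx' : orderOf ((x : K) : Perm α) = 11 := by rw [Subgroup.orderOf_coe, Subgroup.orderOf_coe, hx]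
  refine ⟨hP, _, hx', (Subgroup.eq_of_le_of_card_ge ?_ ?_).symm⟩
  · rw [Subgroup.zpowers_le]
    exact Subgroup.mem_map_of_mem K.subtype x.2
  · rw [Subgroup.card_map_of_injective K.subtype_injective, hP, Nat.card_zpowers, hx']

theorem card_normalizer_dvd_110 (hα : Fintype.card α = 11) (K : Subgroup (Perm α)) [IsPretransitive K α]
    [Fact (Nat.Prime 11)] (P : Sylow 11 K) :
    11 ∣ Nat.card (Subgroup.normalizer ((P : Subgroup K) : Set K)) ∧
      Nat.card (Subgroup.normalizer ((P : Subgroup K) : Set K)) ∣ 110 := by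
  obtain ⟨hP, x, hx, hPx⟩ := sylow_facts hα K P
  refine ⟨(dvd_of_eq hP.symm).trans (Subgroup.card_dvd_of_le Subgroup.le_normalizer), ?_⟩
  rw [← Subgroup.card_map_of_injective K.subtype_injective]
  refine (Subgroup.card_dvd_of_le ?_).trans (card_normalizer_dvd hα hx)
  rw [← hPx]
  exact Subgroup.le_normalizer_map K.subtype

/-- In a transitive group of even permutations of degree 11 the normaliser of a Sylow 11-subgroup has
order 55, unless the group has order 11. -/
theorem card_normalizer_even (hα : Fintype.card α = 11) (K : Subgroup (Perm α)) [IsPretransitive K α]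
    (hK : K ≤ alternatingGroup α) (hne : Nat.card K ≠ 11) [Fact (Nat.Prime 11)] (P : Sylow 11 K) :
    Nat.card (Subgroup.normalizer ((P : Subgroup K) : Set K)) = 55 := by
  obtain ⟨hP, x, hx, hPx⟩ := sylow_facts hα K P
  obtain ⟨h11, h110⟩ := card_normalizer_dvd_110 hα K P
  have hc : IsCyclic (P : Subgroup K) := isCyclic_of_prime_card (p := 11) hP
  -- no element of order two
  have h2 : ¬ 2 ∣ Nat.card (Subgroup.normalizer ((P : Subgroup K) : Set K)) := by
    intro h2
    obtain ⟨⟨⟨s, hsK⟩, hsN⟩, hs⟩ := exists_prime_orderOf_dvd_card' 2 h2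
    rw [Subgroup.orderOf_mk, Subgroup.orderOf_mk] at hs
    have hsx : s * x * s⁻¹ ∈ Subgroup.zpowers x := by
      have hxP : x ∈ (P : Subgroup K).map K.subtype := hPx ▸ Subgroup.mem_zpowers x
      obtain ⟨y, hy, rfl⟩ := hxP
      rw [← hPx]
      exact ⟨⟨s, hsK⟩ * y * ⟨s, hsK⟩⁻¹, (Subgroup.mem_normalizer_iff.1 hsN y).1 hy, rfl⟩
    obtain ⟨e, he⟩ := mem_powers_iff_mem_zpowers.2 hsx
    have he' : s * x * s⁻¹ = x ^ e := he.symm
    have hs2 : s * s = 1 := by rw [← pow_two, ← hs, pow_orderOf_eq_one]
    have hee : x ^ (e * e) = x := by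
      rw [pow_mul, ← he', conj_pow, ← he']
      calc s * (s * x * s⁻¹) * s⁻¹ = (s * s) * x * (s * s)⁻¹ := by group
        _ = x := by rw [hs2]; group
    have hmod : e * e % 11 = 1 := by
      have := pow_eq_pow_iff_modEq.1 (hee.trans (pow_one x).symm)
      rw [hx] at this
      exact this
    have hcases : e % 11 = 1 ∨ e % 11 = 10 := by
      rw [Nat.mul_mod] at hmod
      have hlt : e % 11 < 11 := Nat.mod_lt _ (by norm_num)
      interval_cases h : e % 11 <;> omega
    rcases hcases with h1 | h1
    · rw [← pow_mod_orderOf x e, hx, h1, pow_one] at he'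
      have : s ∈ Subgroup.centralizer ({x} : Set (Perm α)) :=
        Subgroup.mem_centralizer_singleton_iff.2 (mul_inv_eq_iff_eq_mul.1 he')
      rw [centralizer_eleven hα hx] at this
      have hd := Subgroup.orderOf_dvd_natCard _ this
      rw [Nat.card_zpowers, hs, hx] at hd
      norm_num at hd
    · have hinv : s * x * s⁻¹ = x⁻¹ := by
        rw [he', ← pow_mod_orderOf x e, hx, h1]
        refine eq_inv_of_mul_eq_one_left ?_
        rw [← pow_succ]
        exact orderOf_dvd_iff_pow_eq_one.1 (by rw [hx])
      have h := (inverting_eleven hα hx hs hinv).1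
      rw [mem_alternatingGroup.1 (hK hsK)] at h
      exact absurd h (by decide)
  obtain ⟨d, hd⟩ := h11
  rw [hd, show (110 : ℕ) = 11 * 10 by norm_num] at h110
  have hd10 : d ∈ Nat.divisors 10 :=
    Nat.mem_divisors.2 ⟨Nat.dvd_of_mul_dvd_mul_left (by norm_num) h110, by norm_num⟩
  rw [show Nat.divisors 10 = {1, 2, 5, 10} by decide] at hd10
  simp only [Finset.mem_insert, Finset.mem_singleton] at hd10
  rcases hd10 with rfl | rfl | rfl | rfl
  · exfalso
    apply hne
    have hN : Subgroup.normalizer ((P : Subgroup K) : Set K) ≤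
        Subgroup.centralizer ((P : Subgroup K) : Set K) := by
      rw [← Subgroup.eq_of_le_of_card_ge (Subgroup.le_normalizer (H := (P : Subgroup K))) (by rw [hd, hP])]
      haveI := hc.isMulCommutative
      exact Subgroup.le_centralizer _
    have hcomp := MonoidHom.ker_transferSylow_isComplement' P hN
    by_cases hbot : (MonoidHom.transferSylow P hN).ker = ⊥
    · have h := hcomp.card_mul
      rw [hbot, Subgroup.card_bot, one_mul, hP] at h
      exact h.symm
    · haveI : (MonoidHom.transferSylow P hN).ker.Normal := MonoidHom.normal_ker _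
      haveI := normal_transitive hα K _ hbot
      have h := eleven_dvd hα ((MonoidHom.transferSylow P hN).ker.map K.subtype)
      rw [Subgroup.card_map_of_injective K.subtype_injective] at h
      have hmul := hcomp.card_mul
      rw [hP] at hmul
      have h121 := (Nat.mul_dvd_mul_right h 11).trans (dvd_of_eq hmul)
      have := h121.trans (card_dvd_factorial hα K)
      norm_num at this
  · exact absurd (hd ▸ (by norm_num : 2 ∣ 11 * 2)) h2
  · rw [hd]
  · exact absurd (hd ▸ (by norm_num : 2 ∣ 11 * 10)) h2

theorem seven_not_dvd (hα : Fintype.card α = 11) (K : Subgroup (Perm α)) [IsPretransitive K α]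
    (hA : ¬ alternatingGroup α ≤ K) : ¬ 7 ∣ Nat.card K := by
  intro h
  haveI : Fact (Nat.Prime 7) := ⟨by norm_num⟩
  obtain ⟨g, hg⟩ := exists_prime_orderOf_dvd_card' 7 h
  have hg' : orderOf (g : Perm α) = 7 := by rw [Subgroup.orderOf_coe, hg]
  obtain ⟨n, hn⟩ := cycleType_prime_order (σ := (g : Perm α)) (by rw [hg']; norm_num)
  rw [hg'] at hn
  have hs : (g : Perm α).support.card = (n + 1) * 7 := by
    rw [← sum_cycleType, hn, Multiset.sum_replicate, smul_eq_mul]
  have hle := (g : Perm α).support.card_le_univ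
  obtain rfl : n = 0 := by omega
  exact hA (Fusion.alternatingGroup_le_of_prime_cycle (preprimitive hα K) (p := 7) (by norm_num)
    (by omega) (card_cycleType_eq_one.mp (by rw [hn]; simp)) (by omega) g.2)

theorem five_support (hα : Fintype.card α = 11) (K : Subgroup (Perm α)) [IsPretransitive K α]
    (hA : ¬ alternatingGroup α ≤ K) {q : Perm α} (hqK : q ∈ K) (hq : orderOf q = 5) :
    q.support.card = 10 := by
  obtain ⟨n, hn⟩ := cycleType_prime_order (σ := q) (by rw [hq]; norm_num)
  rw [hq] at hn
  have hs : q.support.card = (n + 1) * 5 := by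
    rw [← sum_cycleType, hn, Multiset.sum_replicate, smul_eq_mul]
  have hle := q.support.card_le_univ
  rcases (show n = 0 ∨ n = 1 by omega) with rfl | rfl
  · exact absurd (Fusion.alternatingGroup_le_of_prime_cycle (preprimitive hα K) (p := 5) (by norm_num)
      (by omega) (card_cycleType_eq_one.mp (by rw [hn]; simp)) (by omega) hqK) hA
  · omega

theorem twentyfive_not_dvd (hα : Fintype.card α = 11) (K : Subgroup (Perm α)) [IsPretransitive K α]
    (hA : ¬ alternatingGroup α ≤ K) : ¬ 5 ^ 2 ∣ Nat.card K := by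
  intro h
  haveI : Fact (Nat.Prime 5) := ⟨by norm_num⟩
  obtain ⟨S⟩ : Nonempty (Sylow 5 K) := inferInstance
  have hfac : Nat.card (Perm α) = 5 ^ 2 * 1596672 := by
    rw [Nat.card_perm, Nat.card_eq_fintype_card, hα]
    rfl
  set S₀ := (S : Subgroup K).map K.subtype with hS₀
  have hS : Nat.card S₀ = 5 ^ 2 := by
    rw [hS₀, Subgroup.card_map_of_injective K.subtype_injective]
    obtain ⟨e, he⟩ := IsPGroup.iff_card.mp S.2
    have h1 : 5 ^ 2 ∣ Nat.card (S : Subgroup K) := Sylow.pow_dvd_card_of_pow_dvd_card (G := K) S h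
    have h2 : Nat.card (S : Subgroup K) ∣ 39916800 :=
      (Subgroup.card_subgroup_dvd_card _).trans (card_dvd_factorial hα K)
    rw [he, Nat.pow_dvd_pow_iff_le_right (by norm_num)] at h1
    rw [he] at h2 ⊢
    rcases Nat.lt_or_ge e 3 with h3 | h3
    · rw [show e = 2 by omega]
    · exact absurd ((pow_dvd_pow 5 h3).trans h2) (by norm_num)
  let T : Sylow 5 (Perm α) := Sylow.ofCard S₀ (by
    rw [hS, hfac, Nat.factorization_mul (by norm_num) (by norm_num), Finsupp.add_apply,
      Nat.Prime.factorization_pow (by norm_num), Nat.factorization_eq_zero_of_not_dvd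
        (show ¬ 5 ∣ 1596672 by norm_num)]
    simp)
  obtain ⟨c, hc⟩ := (exists_with_cycleType_iff (α := α) (m := {5})).2 ⟨by simp [hα], by simp⟩
  have hcc : c.IsCycle := card_cycleType_eq_one.mp (by rw [hc]; simp)
  have hc5 : c.support.card = 5 := by rw [← sum_cycleType, hc]; simp
  have hzc : IsPGroup 5 (Subgroup.zpowers c) :=
    IsPGroup.of_card (n := 1) (by rw [Nat.card_zpowers, hcc.orderOf, hc5, pow_one])
  obtain ⟨T', hT'⟩ := hzc.exists_le_sylow
  obtain ⟨k, hk⟩ := MulAction.exists_smul_eq (Perm α) T' T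
  have h1 : k * c * k⁻¹ ∈ ((k • T' : Sylow 5 (Perm α)) : Subgroup (Perm α)) := by
    rw [Sylow.coe_subgroup_smul]
    exact Subgroup.smul_mem_pointwise_smul _ _ _ (hT' (Subgroup.mem_zpowers _))
  rw [hk] at h1
  obtain ⟨y, -, hy⟩ := (show k * c * k⁻¹ ∈ S₀ from h1)
  exact hA (Fusion.alternatingGroup_le_of_prime_cycle (preprimitive hα K) (p := 5) (by norm_num)
    (by omega) hcc.conj (by rw [card_support_conj, hc5])
    (show k * c * k⁻¹ ∈ K from hy ▸ (show K.subtype y ∈ K from y.2)))

theorem divisors_mod_eleven : ∀ n ∈ Nat.divisors 10368, n % 11 = 1 →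
    n = 1 ∨ n = 12 ∨ n = 144 ∨ n = 1728 := by
  decide +kernel

/-- An insoluble transitive group of even permutations of degree 11 is simple of order 660 or 7920 unless
it is the alternating group. -/
theorem even_structure (hα : Fintype.card α = 11) (K : Subgroup (Perm α)) [IsPretransitive K α]
    (hK : K ≤ alternatingGroup α) (hs : ¬ Group.IsSolvable K) (hA : ¬ alternatingGroup α ≤ K) :
    IsSimpleGroup K ∧ (Nat.card K = 660 ∨ Nat.card K = 7920) := by
  haveI : Fact (Nat.Prime 11) := ⟨by norm_num⟩
  haveI : Fact (Nat.Prime 5) := ⟨by norm_num⟩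
  obtain ⟨P⟩ : Nonempty (Sylow 11 K) := inferInstance
  have hne : Nat.card K ≠ 11 := fun h => by
    haveI := (isCyclic_of_prime_card (p := 11) h).isMulCommutative
    exact hs (isSolvable_of_comm fun a b => mul_comm' a b)
  have hN := card_normalizer_even hα K hK hne P
  have hmul := Small.card_normalizer_mul P
  rw [hN] at hmul
  set n := Nat.card (Sylow 11 K) with hn
  have hmod : n % 11 = 1 := card_sylow_modEq_one 11 K
  have hn1 : n ≠ 1 := by
    intro h1
    rw [h1, one_mul] at hmul
    have htop : Subgroup.normalizer ((P : Subgroup K) : Set K) = ⊤ :=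
      Subgroup.eq_top_of_card_eq _ (hN.trans hmul)
    haveI : (P : Subgroup K).Normal := Subgroup.normalizer_eq_top_iff.1 htop
    obtain ⟨hP, -⟩ := sylow_facts hα K P
    haveI : IsCyclic (P : Subgroup K) := isCyclic_of_prime_card (p := 11) hP
    have hq : Nat.card (K ⧸ (P : Subgroup K)) = 5 := by
      have := Subgroup.card_eq_card_quotient_mul_card_subgroup (P : Subgroup K)
      rw [hP, ← hmul] at this
      omega
    haveI : IsCyclic (K ⧸ (P : Subgroup K)) := isCyclic_of_prime_card (p := 5) hq
    haveI := (IsCyclic.isMulCommutative : IsMulCommutative (P : Subgroup K))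
    haveI := (IsCyclic.isMulCommutative : IsMulCommutative (K ⧸ (P : Subgroup K)))
    exact hs (solvable_of_ker_le_range (P : Subgroup K).subtype (QuotientGroup.mk' (P : Subgroup K))
      (by rw [QuotientGroup.ker_mk', Subgroup.range_subtype]))
  have h25 := twentyfive_not_dvd hα K hA
  have h7 := seven_not_dvd hα K hA
  have hn10368 : n ∈ Nat.divisors 10368 := by
    refine Nat.mem_divisors.2 ⟨?_, by norm_num⟩
    have hd : Nat.card K ∣ 19958400 := by
      refine (Subgroup.card_dvd_of_le hK).trans (dvd_of_eq ?_)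
      haveI : Nontrivial α := Fintype.one_lt_card_iff_nontrivial.1 (by omega)
      have h2 := two_mul_nat_card_alternatingGroup (α := α)
      rw [Nat.card_perm, Nat.card_eq_fintype_card (α := α), hα] at h2
      have : Nat.factorial 11 = 39916800 := rfl
      omega
    rw [← hmul, mul_comm, show (19958400 : ℕ) = 55 * (10368 * 35) by norm_num] at hd
    have h := Nat.dvd_of_mul_dvd_mul_left (by norm_num) hd
    refine (Nat.Coprime.dvd_of_dvd_mul_right ?_ h)
    rw [show (35 : ℕ) = 5 * 7 by norm_num, Nat.coprime_mul_iff_right]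
    refine ⟨((Nat.Prime.coprime_iff_not_dvd (by norm_num : Nat.Prime 5)).2 fun h5 => h25 ?_).symm,
      ((Nat.Prime.coprime_iff_not_dvd (by norm_num : Nat.Prime 7)).2 fun h5 => h7 ?_).symm⟩
    · obtain ⟨r, hr⟩ := h5
      exact ⟨11 * r, by rw [← hmul, hr]; ring⟩
    · exact h5.trans (hmul ▸ dvd_mul_right n 55)
  have hcard : Nat.card K = 660 ∨ Nat.card K = 7920 := by
    rcases divisors_mod_eleven n hn10368 hmod with h | h | h | h
    · exact absurd h hn1
    · left; rw [← hmul, h]
    · right; rw [← hmul, h]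
    · exfalso
      rw [h] at hmul
      have hK' : Nat.card K = 95040 := by omega
      obtain ⟨Q⟩ : Nonempty (Sylow 5 K) := inferInstance
      have hQ : Nat.card (Q : Subgroup K) = 5 := by
        rw [Small.card_sylow 1 19008 (by rw [hK']; norm_num) (by norm_num) Q, pow_one]
      set N := Subgroup.normalizer ((Q : Subgroup K) : Set K)
      set C := Subgroup.centralizer ((Q : Subgroup K) : Set K)
      obtain ⟨q, hq⟩ := exists_prime_orderOf_dvd_card' (G := (Q : Subgroup K)) 5 (by rw [hQ])
      have hq' : orderOf ((q : K) : Perm α) = 5 := by rw [Subgroup.orderOf_coe, Subgroup.orderOf_coe, hq]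
      have hC2 : ¬ 2 ∣ Nat.card C := by
        intro h2
        obtain ⟨⟨t, htC⟩, ht⟩ := exists_prime_orderOf_dvd_card' 2 h2
        rw [Subgroup.orderOf_mk, ← Subgroup.orderOf_coe] at ht
        have hcom : Commute ((q : K) : Perm α) (t : Perm α) :=
          congrArg Subtype.val (Subgroup.mem_centralizer_iff.1 htC (q : K) q.2)
        have := (commuting_five hα hq' (five_support hα K hA (q : K).2 hq') ht hcom).1
        rw [mem_alternatingGroup.1 (hK t.2)] at this
        exact absurd this (by decide)
      have hN4 : Nat.card N ∣ 4 * Nat.card C := by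
        rw [← Subgroup.card_mul_index ((Q : Subgroup K).normalizerMonoidHom).ker,
          Subgroup.normalizerMonoidHom_ker,
          Nat.card_congr (Subgroup.subgroupOfEquivOfLe (Subgroup.centralizer_le_normalizer _)).toEquiv,
          mul_comm]
        refine Nat.mul_dvd_mul_right ?_ _
        rw [← Subgroup.normalizerMonoidHom_ker, Subgroup.index_ker]
        haveI : IsCyclic (Q : Subgroup K) := isCyclic_of_prime_card (p := 5) hQ
        refine (Subgroup.card_subgroup_dvd_card _).trans (dvd_of_eq ?_)
        rw [IsCyclic.card_mulAut, hQ]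
        rfl
      have hC5 : Nat.card C ∣ 5 := by
        have hC50 : Nat.card C ∣ 50 := by
          rw [← Subgroup.card_map_of_injective K.subtype_injective]
          refine (Subgroup.card_dvd_of_le (K := Subgroup.centralizer ({((q : K) : Perm α)} : Set (Perm α))) ?_).trans
            (dvd_of_eq ?_)
          · rintro _ ⟨c, hc, rfl⟩
            rw [Subgroup.mem_centralizer_singleton_iff]
            exact (congrArg Subtype.val (Subgroup.mem_centralizer_iff.1 hc (q : K) q.2)).symm
          · obtain ⟨m, hm⟩ := cycleType_prime_order (σ := ((q : K) : Perm α)) (by rw [hq']; norm_num)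
            rw [hq'] at hm
            have hsum := sum_cycleType ((q : K) : Perm α)
            rw [hm, Multiset.sum_replicate, smul_eq_mul, five_support hα K hA (q : K).2 hq'] at hsum
            obtain rfl : m = 1 := by omega
            rw [nat_card_centralizer, hm, hα]
            rfl
        have hd : Nat.card C ∣ 95040 := hK' ▸ Subgroup.card_subgroup_dvd_card _
        have := Nat.dvd_gcd hC50 hd
        rw [show Nat.gcd 50 95040 = 5 * 2 by norm_num] at this
        exact (Nat.Coprime.dvd_of_dvd_mul_right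
          ((Nat.Prime.coprime_iff_not_dvd (by norm_num)).2 hC2).symm this)
      have hN20 : Nat.card N ∈ Nat.divisors 20 :=
        Nat.mem_divisors.2 ⟨hN4.trans (Nat.mul_dvd_mul_left 4 hC5), by norm_num⟩
      have hmul5 := Small.card_normalizer_mul Q
      have hmod5 : Nat.card (Sylow 5 K) % 5 = 1 := card_sylow_modEq_one 5 K
      have h5N : 5 ∣ Nat.card N := hQ ▸ Subgroup.card_dvd_of_le Subgroup.le_normalizer
      rw [hK'] at hmul5
      rw [show Nat.divisors 20 = {1, 2, 4, 5, 10, 20} by decide] at hN20
      simp only [Finset.mem_insert, Finset.mem_singleton] at hN20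
      change Nat.card (Sylow 5 K) * Nat.card N = 95040 at hmul5
      rcases hN20 with e | e | e | e | e | e <;> rw [e] at hmul5 h5N <;> omega
  refine ⟨?_, hcard⟩
  haveI : Nontrivial K := Finite.one_lt_card_iff_nontrivial.1 (by omega)
  refine ⟨fun M hM => or_iff_not_imp_left.2 fun hM1 => ?_⟩
  set M₀ := M.map K.subtype with hM₀
  haveI := normal_transitive hα K M hM1
  have hM₀K : M₀ ≤ alternatingGroup α := (Subgroup.map_subtype_le M).trans hK
  -- the Sylow subgroups lie in `M`
  have hPM : (P : Subgroup K) ≤ M := by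
    have h11 : 11 ∣ Nat.card M := by
      have := eleven_dvd hα M₀
      rwa [hM₀, Subgroup.card_map_of_injective K.subtype_injective] at this
    obtain ⟨y, hy⟩ := exists_prime_orderOf_dvd_card' 11 h11
    obtain ⟨P', hP'⟩ := (IsPGroup.of_card (p := 11) (n := 1)
      (by rw [Nat.card_zpowers, Subgroup.orderOf_coe, hy, pow_one] :
        Nat.card (Subgroup.zpowers (y : K)) = 11 ^ 1)).exists_le_sylow
    have hP'eq : Subgroup.zpowers (y : K) = P' := Subgroup.eq_of_le_of_card_ge hP'
      (by rw [(sylow_facts hα K P').1, Nat.card_zpowers, Subgroup.orderOf_coe, hy])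
    obtain ⟨k, hk⟩ := MulAction.exists_smul_eq K P' P
    rw [← hk, Sylow.coe_subgroup_smul, ← hP'eq]
    intro z hz
    rw [Subgroup.mem_pointwise_smul_iff_inv_smul_mem] at hz
    have hzM : (MulAut.conj k)⁻¹ • z ∈ M := (Subgroup.zpowers_le.2 y.2) hz
    have := hM.conj_mem _ hzM k
    simpa [MulAut.smul_def, mul_assoc] using this
  have hT := Sylow.normalizer_sup_eq_top' P hPM
  have hM11 : Nat.card M₀ ≠ 11 := fun h => by
    have hc : Nat.card M = 11 := by rwa [hM₀, Subgroup.card_map_of_injective K.subtype_injective] at h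
    have e : (P : Subgroup K) = M := Subgroup.eq_of_le_of_card_ge hPM (by rw [hc, (sylow_facts hα K P).1])
    haveI : (P : Subgroup K).Normal := e ▸ hM
    letI := Sylow.unique_of_normal P inferInstance
    have : n = 1 := by rw [hn, Nat.card_eq_one_iff_unique]; exact ⟨inferInstance, ⟨P⟩⟩
    exact hn1 this
  -- the whole normaliser lies in `M`
  have hNM : Subgroup.normalizer ((P : Subgroup K) : Set K) ≤ M := by
    obtain ⟨P₀⟩ : Nonempty (Sylow 11 M₀) := inferInstance
    have h55 := card_normalizer_even hα M₀ hM₀K hM11 P₀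
    set A := (Subgroup.normalizer ((P₀ : Subgroup M₀) : Set M₀)).map M₀.subtype with hA'
    set B := (Subgroup.normalizer ((P : Subgroup K) : Set K)).map K.subtype with hB
    obtain ⟨hP₀, x₀, hx₀, hPx₀⟩ := sylow_facts hα M₀ P₀
    have hxK : x₀ ∈ K := by
      have : x₀ ∈ (P₀ : Subgroup M₀).map M₀.subtype := hPx₀ ▸ Subgroup.mem_zpowers x₀
      exact Subgroup.map_subtype_le M ((Subgroup.map_subtype_le _) this)
    obtain ⟨P₁, hP₁⟩ := (IsPGroup.of_card (p := 11) (n := 1)
      (by rw [Nat.card_zpowers, ← Subgroup.orderOf_coe]; simp [hx₀] :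
        Nat.card (Subgroup.zpowers (⟨x₀, hxK⟩ : K)) = 11 ^ 1)).exists_le_sylow
    have hP₁eq : (P₁ : Subgroup K).map K.subtype = Subgroup.zpowers x₀ := by
      rw [← Subgroup.eq_of_le_of_card_ge hP₁ (by
        rw [(sylow_facts hα K P₁).1, Nat.card_zpowers, ← Subgroup.orderOf_coe]; simp [hx₀]),
        MonoidHom.map_zpowers]
      rfl
    have hle : A ≤ ((Subgroup.normalizer ((P₁ : Subgroup K) : Set K)) ⊓ M).map K.subtype := by
      rintro _ ⟨g, hg, rfl⟩
      obtain ⟨m, hm, hmg⟩ := g.2
      refine ⟨m, ⟨?_, hm⟩, hmg⟩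
      have hgx : ∀ z, z ∈ Subgroup.zpowers x₀ ↔ (g : Perm α) * z * (g : Perm α)⁻¹ ∈ Subgroup.zpowers x₀ :=
        Subgroup.mem_normalizer_iff.1 (hPx₀ ▸ Subgroup.le_normalizer_map M₀.subtype (Subgroup.mem_map_of_mem _ hg))
      refine Subgroup.mem_normalizer_iff.2 fun z => ?_
      have e : ∀ w : K, w ∈ (P₁ : Subgroup K) ↔ (w : Perm α) ∈ Subgroup.zpowers x₀ := fun w => by
        rw [← hP₁eq]
        exact (Subgroup.mem_map_iff_mem K.subtype_injective).symm
      rw [e, e, hgx]
      push_cast
      rw [show (g : Perm α) = (m : Perm α) from hmg.symm]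
    have h55' : Nat.card A = 55 := by rw [hA', Subgroup.card_map_of_injective M₀.subtype_injective, h55]
    have hle' := Subgroup.card_le_of_le hle
    rw [h55', Subgroup.card_map_of_injective K.subtype_injective] at hle'
    have hN1 := card_normalizer_even hα K hK hne P₁
    have hN1M : Subgroup.normalizer ((P₁ : Subgroup K) : Set K) ≤ M :=
      inf_eq_left.1 (Subgroup.eq_of_le_of_card_ge inf_le_left (by rw [hN1]; exact hle'))
    obtain ⟨k, hk⟩ := MulAction.exists_smul_eq K P₁ P
    intro z hz
    have hz' : k⁻¹ * z * k ∈ Subgroup.normalizer ((P₁ : Subgroup K) : Set K) := by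
      rw [Sylow.coe_coe, ← Sylow.smul_eq_iff_mem_normalizer] at hz ⊢
      rw [← hk, smul_smul] at hz
      rw [mul_assoc, mul_smul, hz, inv_smul_smul]
    have := hM.conj_mem _ (hN1M hz') k
    simpa [mul_assoc] using this
  rw [eq_top_iff, ← hT]
  exact sup_le hNM le_rfl

end Cfsg.Lib.DegreeEleven
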