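import Cfsg.Agent.Lib.DegreeEleven.Std
import Cfsg.Agent.Lib.DegreeEleven.Even
import Cfsg.Agent.Lib.MEleven.Unique
import Cfsg.Agent.S0498

/-!
Insoluble transitive groups of degree 11.
-/

set_option autoImplicit false
set_option linter.style.haveILetI false

namespace Cfsg.Lib.DegreeEleven

open Equiv Equiv.Perm MulAction

variable {α : Type*} [Fintype α] [DecidableEq α]

/-- A group of order 7920 of degree 11 is, after a relabelling, the standard one. -/
theorem exists_relabel (hα : Fintype.card α = 11) (K : Subgroup (Perm α)) [IsPretransitive K α]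
    (hsimp : IsSimpleGroup K) (h : Nat.card K = 7920) :
    ∃ e : α ≃ ZMod 11, K.map (e.permCongrHom).toMonoidHom = MEleven.stdGroup := by
  haveI : Fact (Nat.Prime 2) := ⟨by norm_num⟩
  haveI : Fact (Nat.Prime 3) := ⟨by norm_num⟩
  haveI : Fact (Nat.Prime 5) := ⟨by norm_num⟩
  haveI : Fact (Nat.Prime 11) := ⟨by norm_num⟩
  haveI := Fintype.ofFinite K
  obtain ⟨a⟩ : Nonempty α := Fintype.card_pos_iff.1 (by omega)
  have hi : (MulAction.stabilizer K a).index = 11 := by
    rw [index_stabilizer_of_transitive, Nat.card_eq_fintype_card, hα]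
  obtain ⟨ψ, b, -, hr, hb⟩ := MEleven.exists_model_action (G := K) ⟨hsimp, h⟩ _ hi
  let c : K ⧸ MulAction.stabilizer K a → α := ofQuotientStabilizer K a
  have hc : Function.Bijective c := by
    refine (Nat.bijective_iff_surjective_and_card _).2 ⟨fun y => ?_, ?_⟩
    · obtain ⟨g, hg⟩ := exists_smul_eq K a y
      exact ⟨(g : K ⧸ MulAction.stabilizer K a), by rw [← hg]; exact ofQuotientStabilizer_mk K a g⟩
    · show (MulAction.stabilizer K a).index = Nat.card α
      rw [hi, Nat.card_eq_fintype_card, hα]
  let ce : K ⧸ MulAction.stabilizer K a ≃ α := Equiv.ofBijective c hc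
  refine ⟨ce.symm.trans b, ?_⟩
  have key : ∀ g : K, ψ g = (ce.symm.trans b).permCongrHom (g : Perm α) := by
    intro g
    refine Equiv.ext fun i => ?_
    obtain ⟨p, rfl⟩ := b.surjective i
    rw [hb, Equiv.permCongrHom_coe, Equiv.permCongr_apply]
    simp only [Equiv.symm_trans_apply, Equiv.symm_symm, Equiv.trans_apply, Equiv.symm_apply_apply]
    congr 1
    rw [Equiv.eq_symm_apply]
    exact ofQuotientStabilizer_smul K a g p
  rw [← hr]
  ext σ
  simp only [Subgroup.mem_map, MonoidHom.mem_range]
  exact ⟨fun ⟨g, hg, e⟩ => ⟨⟨g, hg⟩, (key ⟨g, hg⟩).trans e⟩, fun ⟨g, e⟩ => ⟨g, g.2, (key g).symm.trans e⟩⟩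

/-- The standard group has trivial four-point stabilisers and is 4-transitive. -/
theorem sharp_of_seventy_nine_twenty (hα : Fintype.card α = 11) (K : Subgroup (Perm α)) [IsPretransitive K α]
    (hsimp : IsSimpleGroup K) (h : Nat.card K = 7920) :
    IsMultiplyPretransitive K α 4 ∧ ∀ x : Fin 4 ↪ α, MulAction.stabilizer K x = ⊥ := by
  obtain ⟨e, he⟩ := exists_relabel hα K hsimp h
  haveI h4 : IsMultiplyPretransitive K α 4 := ⟨fun x y => by
    obtain ⟨σ, hσ, hxy⟩ := exists_map (fun i => e (x i)) (fun i => e (y i))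
      (e.injective.comp x.injective) (e.injective.comp y.injective)
    rw [← he] at hσ
    obtain ⟨g, hg, rfl⟩ := hσ
    refine ⟨⟨g, hg⟩, Function.Embedding.ext fun i => e.injective ?_⟩
    have := hxy i
    simp only [MulEquiv.coe_toMonoidHom, Equiv.permCongrHom_coe, Equiv.permCongr_apply,
      Equiv.symm_apply_apply] at this
    exact this⟩
  haveI : IsPretransitive K (Fin 4 ↪ α) := h4
  refine ⟨h4, fun x => Subgroup.card_eq_one.1 ?_⟩
  have h1 := (MulAction.stabilizer K x).index_mul_card
  have hidx : (MulAction.stabilizer K x).index = Nat.card (Fin 4 ↪ α) := by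
    rw [MulAction.index_stabilizer, ← Set.ncard_univ]
    congr 1
    exact Set.eq_univ_of_forall fun y => h4.exists_smul_eq x y
  rw [hidx, Nat.card_eq_fintype_card, Fintype.card_embedding_eq, hα, h,
    Fintype.card_fin, show Nat.descFactorial 11 4 = 7920 from rfl] at h1
  omega

theorem perm_six_ten : ∀ σ : Perm (Fin 6), σ ^ 10 = 1 → σ ^ 2 = 1 ∨ σ ^ 5 = 1 := by
  decide +kernel

/-- The main theorem. -/
theorem insoluble_transitive (hα : Fintype.card α = 11) (G : Subgroup (Perm α)) [IsPretransitive G α]
    (hG : ¬ Group.IsSolvable G) (hA : ¬ alternatingGroup α ≤ G) :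
    (IsMultiplyPretransitive G α 4 ∧ ∀ x : Fin 4 ↪ α, MulAction.stabilizer G x = ⊥) ∨
      Nonempty (G ≃* Matrix.ProjectiveSpecialLinearGroup (Fin 2) (ZMod 11)) := by
  haveI : Fact (Nat.Prime 11) := ⟨by norm_num⟩
  haveI : Fact (Nat.Prime 5) := ⟨by norm_num⟩
  set K := G ⊓ alternatingGroup α with hKdef
  have hKG : K ≤ G := inf_le_left
  obtain ⟨P⟩ : Nonempty (Sylow 11 G) := inferInstance
  obtain ⟨hP, x, hx, hPx⟩ := sylow_facts hα G P
  have hxG : x ∈ G := Subgroup.map_subtype_le _ (hPx.ge (Subgroup.mem_zpowers x))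
  have hxK : x ∈ K := ⟨hxG, mem_alternatingGroup.2 (sign_eleven hα hx)⟩
  haveI : IsPretransitive K α := ⟨fun a b => by
    obtain ⟨-, hxc, hxs⟩ := cycleType_eleven hα hx
    obtain ⟨i, hi⟩ := hxc.exists_pow_eq (mem_support.1 (hxs a)) (mem_support.1 (hxs b))
    exact ⟨⟨x ^ i, pow_mem hxK i⟩, hi⟩⟩
  -- the sign on `G`
  set sg : G →* ℤˣ := sign.comp G.subtype with hsg
  have hker : sg.ker = K.subgroupOf G := by
    ext g
    simp [hsg, hKdef, Subgroup.mem_subgroupOf, mem_alternatingGroup]
  have hKs : ¬ Group.IsSolvable K := fun h => hG (by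
    haveI : Group.IsSolvable (K.subgroupOf G) :=
      solvable_of_solvable_injective (f := (Subgroup.subgroupOfEquivOfLe hKG).toMonoidHom) (Subgroup.subgroupOfEquivOfLe hKG).injective
    exact solvable_of_ker_le_range (K.subgroupOf G).subtype sg (by rw [hker, Subgroup.range_subtype]))
  have hKA : ¬ alternatingGroup α ≤ K := fun h => hA (h.trans hKG)
  obtain ⟨hsimp, hcard⟩ := even_structure hα K inf_le_right hKs hKA
  have hGcard : G ≤ alternatingGroup α ∨ Nat.card G = 2 * Nat.card K := by
    by_cases hle : G ≤ alternatingGroup α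
    · exact Or.inl hle
    right
    have hidx : sg.ker.index = 2 := by
      obtain ⟨g, hg, hg'⟩ := SetLike.not_le_iff_exists.1 hle
      rw [Subgroup.index_ker]
      have htop : sg.range = ⊤ := by
        refine eq_top_iff.2 fun u _ => ?_
        rcases Int.units_eq_one_or u with rfl | rfl
        · exact one_mem _
        · refine ⟨⟨g, hg⟩, ?_⟩
          rcases Int.units_eq_one_or (sign g) with h | h
          · exact absurd (mem_alternatingGroup.2 h) hg'
          · exact h
      rw [htop, Subgroup.card_top, Nat.card_eq_fintype_card]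
      rfl
    rw [← Subgroup.card_mul_index sg.ker, hidx, hker,
      Nat.card_congr (Subgroup.subgroupOfEquivOfLe hKG).toEquiv, mul_comm]
  rcases hGcard with hle | hG2
  · have hKeq : K = G := inf_eq_left.2 hle
    rw [hKeq] at hsimp hcard
    haveI := hsimp
    rcases hcard with h | h
    · right
      exact Cfsg.Agent.S0498.result 11 (Or.inl rfl) (by rw [h]; norm_num) (ZMod.card 11)
    · exact Or.inl (sharp_of_seventy_nine_twenty hα G hsimp h)
  exfalso
  -- the whole normaliser of a subgroup of order 11
  have hN : Nat.card (Subgroup.normalizer ((P : Subgroup G) : Set G)) = 110 := by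
    obtain ⟨h11, h110⟩ := card_normalizer_dvd_110 hα G P
    have hmul := Small.card_normalizer_mul P
    have hmod : Nat.card (Sylow 11 G) % 11 = 1 := card_sylow_modEq_one 11 G
    rw [hG2] at hmul
    obtain ⟨d, hd⟩ := h11
    rw [hd] at hmul h110 ⊢
    have hd10 : d ∈ Nat.divisors 10 :=
      Nat.mem_divisors.2 ⟨Nat.dvd_of_mul_dvd_mul_left (by norm_num : 0 < 11) h110, by norm_num⟩
    rw [show Nat.divisors 10 = {1, 2, 5, 10} by decide] at hd10
    simp only [Finset.mem_insert, Finset.mem_singleton] at hd10
    rcases hd10 with rfl | rfl | rfl | rfl <;> rcases hcard with h | h <;> rw [h] at hmul <;> omega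
  set NA := (Subgroup.normalizer ((P : Subgroup G) : Set G)).map G.subtype with hNA
  have hNAeq : NA = Subgroup.normalizer ((Subgroup.zpowers x : Subgroup (Perm α)) : Set (Perm α)) := by
    refine Subgroup.eq_of_le_of_card_ge ?_ ?_
    · rw [← hPx]; exact Subgroup.le_normalizer_map G.subtype
    · rw [Subgroup.card_map_of_injective G.subtype_injective, hN]
      exact Nat.le_of_dvd (by norm_num) (card_normalizer_dvd hα hx)
  rcases hcard with h660 | h7920
  · -- order 1320
    have hG1320 : Nat.card G = 1320 := by rw [hG2, h660]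
    obtain ⟨s₁, hs₁⟩ := exists_prime_orderOf_dvd_card'
      (G := Subgroup.normalizer ((P : Subgroup G) : Set G)) 2 (by rw [hN]; norm_num)
    obtain ⟨z₀, hz₀, hzC⟩ : ∃ z : G, z ∈ Subgroup.normalizer ((P : Subgroup G) : Set G) ∧ orderOf z = 10 := by
      set f := (P : Subgroup G).normalizerMonoidHom with hf
      haveI hc : IsCyclic (P : Subgroup G) := isCyclic_of_prime_card (p := 11) hP
      have hk : Nat.card f.ker = 11 := by
        rw [Subgroup.normalizerMonoidHom_ker,
          Nat.card_congr (Subgroup.subgroupOfEquivOfLe (Subgroup.centralizer_le_normalizer _)).toEquiv]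
        apply le_antisymm
        · rw [← Subgroup.card_map_of_injective G.subtype_injective]
          refine (Subgroup.card_le_of_le (K := Subgroup.centralizer ({x} : Set (Perm α))) ?_).trans
            (le_of_eq (by rw [centralizer_eleven hα hx, Nat.card_zpowers, hx]))
          rintro _ ⟨c, hc, rfl⟩
          rw [Subgroup.mem_centralizer_singleton_iff]
          obtain ⟨y, hy, hyx⟩ := (hPx.ge (Subgroup.mem_zpowers x))
          rw [← hyx]
          exact (congrArg Subtype.val (Subgroup.mem_centralizer_iff.1 hc y hy)).symm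
        · haveI := hc.isMulCommutative
          exact hP.symm.le.trans (Subgroup.card_le_of_le (Subgroup.le_centralizer _))
      have hrange : Nat.card f.range = 10 := by
        have := f.ker.card_mul_index
        rw [Subgroup.index_ker, hk, hN] at this
        omega
      have hM : Nat.card (MulAut (P : Subgroup G)) = 10 := by
        rw [IsCyclic.card_mulAut, hP, Nat.totient_prime (by norm_num)]
      have htop : f.range = ⊤ := Subgroup.eq_top_of_card_eq _ (by rw [hrange, hM])
      haveI : IsCyclic (MulAut (P : Subgroup G)) := by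
        have e := (IsCyclic.mulAutMulEquiv (P : Subgroup G)).symm
        rw [hP] at e
        exact e.isCyclic.1 inferInstance
      obtain ⟨σ, hσ⟩ := IsCyclic.exists_ofOrder_eq_natCard (α := MulAut (P : Subgroup G))
      obtain ⟨w, hw⟩ : σ ∈ f.range := htop ▸ Subgroup.mem_top σ
      have h10 : (w ^ 10) ∈ f.ker := by
        rw [MonoidHom.mem_ker, map_pow, hw, ← hM, ← hσ, pow_orderOf_eq_one]
      have h110 : (w ^ 10) ^ 11 = 1 := by
        have := pow_card_eq_one' (x := (⟨w ^ 10, h10⟩ : f.ker))
        rw [hk] at this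
        exact congrArg Subtype.val this
      refine ⟨((w ^ 11 : Subgroup.normalizer ((P : Subgroup G) : Set G)) : G), (w ^ 11).2, ?_⟩
      rw [Subgroup.orderOf_coe]
      refine Nat.dvd_antisymm (orderOf_dvd_of_pow_eq_one ?_) ?_
      · rw [← pow_mul, show 11 * 10 = 10 * 11 by norm_num, pow_mul, h110]
      · have h := orderOf_map_dvd f (w ^ 11)
        rwa [map_pow, hw, Nat.Coprime.orderOf_pow (by rw [hσ, hM]; norm_num), hσ, hM] at h
    set s := z₀ ^ 5 with hsdef
    set q := z₀ ^ 2 with hqdef
    have hs : orderOf (s : Perm α) = 2 := by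
      rw [Subgroup.orderOf_coe, hsdef, orderOf_pow, hzC]; rfl
    have hq : orderOf (q : Perm α) = 5 := by
      rw [Subgroup.orderOf_coe, hqdef, orderOf_pow, hzC]; rfl
    have hqs : Commute (q : Perm α) (s : Perm α) :=
      congrArg Subtype.val ((Commute.refl z₀).pow_pow 2 5).eq
    have hq10 := five_support hα G hA q.2 hq
    have hs10 := (commuting_five hα hq hq10 hs hqs).2
    obtain ⟨a, ha⟩ := Finset.card_eq_one.1
      (show ((q : Perm α).supportᶜ).card = 1 by rw [Finset.card_compl]; omega)
    have hfixq : ∀ b, (q : Perm α) b = b ↔ b = a := fun b => by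
      have := Finset.ext_iff.1 ha b
      simpa using this
    -- the point stabiliser
    set H := MulAction.stabilizer G a with hH
    have hH120 : Nat.card H = 120 := by
      have := H.index_mul_card
      rw [show H.index = 11 by
        rw [hH, index_stabilizer_of_transitive, Nat.card_eq_fintype_card, hα], hG1320] at this
      omega
    have hmemH : ∀ g : G, g * q = q * g → g ∈ H := fun g hg => by
      show (g : Perm α) a = a
      refine (hfixq _).1 ?_
      have e := DFunLike.congr_fun (congrArg Subtype.val hg) a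
      rw [Subgroup.coe_mul, Subgroup.coe_mul, Perm.mul_apply, Perm.mul_apply, (hfixq a).2 rfl] at e
      exact e.symm
    have hzH : z₀ ∈ H := hmemH z₀ (Commute.self_pow z₀ 2).eq
    have hqH : q ∈ H := pow_mem hzH 2
    have hsH : s ∈ H := pow_mem hzH 5
    -- the Sylow 5-subgroups
    have hfive : ∀ Q : Sylow 5 G, Nat.card (Q : Subgroup G) = 5 := fun Q => by
      rw [Small.card_sylow 1 264 (by rw [hG1320]; norm_num) (by norm_num) Q, pow_one]
    obtain ⟨Q, hQ⟩ := (IsPGroup.of_card (p := 5) (n := 1)
      (by rw [Nat.card_zpowers, ← Subgroup.orderOf_coe, hq, pow_one] :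
        Nat.card (Subgroup.zpowers q) = 5 ^ 1)).exists_le_sylow
    have hQeq : Subgroup.zpowers q = Q := Subgroup.eq_of_le_of_card_ge hQ
      (by rw [hfive Q, Nat.card_zpowers, ← Subgroup.orderOf_coe, hq])
    have hzQ : z₀ ∈ Subgroup.centralizer ((Q : Subgroup G) : Set G) := by
      rw [← hQeq]
      refine Subgroup.mem_centralizer_iff.2 fun w hw => ?_
      obtain ⟨i, rfl⟩ := Subgroup.mem_zpowers_iff.1 hw
      exact ((Commute.pow_self z₀ 2).zpow_left i).eq
    have hC10 : Nat.card (Subgroup.centralizer ((Q : Subgroup G) : Set G)) = 10 := by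
      have hd10 : 10 ∣ Nat.card (Subgroup.centralizer ((Q : Subgroup G) : Set G)) :=
        hzC ▸ Subgroup.orderOf_dvd_natCard _ hzQ
      have hd50 : Nat.card (Subgroup.centralizer ((Q : Subgroup G) : Set G)) ∣ 50 := by
        rw [← Subgroup.card_map_of_injective G.subtype_injective]
        refine (Subgroup.card_dvd_of_le (K := Subgroup.centralizer ({(q : Perm α)} : Set (Perm α))) ?_).trans
          (dvd_of_eq ?_)
        · rintro _ ⟨c, hc, rfl⟩
          rw [Subgroup.mem_centralizer_singleton_iff]
          exact (congrArg Subtype.val (Subgroup.mem_centralizer_iff.1 hc q (hQ (Subgroup.mem_zpowers q)))).symm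
        · obtain ⟨m, hm⟩ := cycleType_prime_order (σ := (q : Perm α)) (by rw [hq]; norm_num)
          rw [hq] at hm
          have hsum := sum_cycleType (q : Perm α)
          rw [hm, Multiset.sum_replicate, smul_eq_mul, hq10] at hsum
          obtain rfl : m = 1 := by omega
          rw [nat_card_centralizer, hm, hα]
          rfl
      have hd : Nat.card (Subgroup.centralizer ((Q : Subgroup G) : Set G)) ∣ 1320 :=
        hG1320 ▸ Subgroup.card_subgroup_dvd_card _
      have := Nat.dvd_gcd hd50 hd
      rw [show Nat.gcd 50 1320 = 10 by norm_num] at this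
      exact Nat.dvd_antisymm this hd10
    have hN20 : Nat.card (Subgroup.normalizer ((Q : Subgroup G) : Set G)) = 20 := by
      have h40 : Nat.card (Subgroup.normalizer ((Q : Subgroup G) : Set G)) ∣ 40 := by
        rw [← Subgroup.card_mul_index ((Q : Subgroup G).normalizerMonoidHom).ker,
          Subgroup.normalizerMonoidHom_ker,
          Nat.card_congr (Subgroup.subgroupOfEquivOfLe (Subgroup.centralizer_le_normalizer _)).toEquiv,
          hC10]
        refine (Nat.mul_dvd_mul_left 10 ?_).trans (dvd_of_eq (show 10 * 4 = 40 from rfl))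
        rw [← Subgroup.normalizerMonoidHom_ker, Subgroup.index_ker]
        haveI : IsCyclic (Q : Subgroup G) := isCyclic_of_prime_card (p := 5) (hfive Q)
        refine (Subgroup.card_subgroup_dvd_card _).trans (dvd_of_eq ?_)
        rw [IsCyclic.card_mulAut, hfive Q]
        rfl
      have h10N : 10 ∣ Nat.card (Subgroup.normalizer ((Q : Subgroup G) : Set G)) :=
        hC10 ▸ Subgroup.card_dvd_of_le (Subgroup.centralizer_le_normalizer _)
      have hmul := Small.card_normalizer_mul Q
      have hmod : Nat.card (Sylow 5 G) % 5 = 1 := card_sylow_modEq_one 5 G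
      rw [hG1320] at hmul
      obtain ⟨d, hd⟩ := h10N
      rw [hd] at h40 hmul ⊢
      have hd4 : d ∈ Nat.divisors 4 :=
        Nat.mem_divisors.2 ⟨Nat.dvd_of_mul_dvd_mul_left (by norm_num : 0 < 10) h40, by norm_num⟩
      rw [show Nat.divisors 4 = {1, 2, 4} by decide] at hd4
      simp only [Finset.mem_insert, Finset.mem_singleton] at hd4
      rcases hd4 with rfl | rfl | rfl <;> omega
    have hNH : Subgroup.normalizer ((Q : Subgroup G) : Set G) ≤ H := by
      intro g hg
      show (g : Perm α) a = a
      refine (hfixq _).1 ?_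
      have hm : g⁻¹ * q * g⁻¹⁻¹ ∈ (Q : Subgroup G) :=
        (Subgroup.mem_normalizer_iff.1 (inv_mem hg) q).1 (hQ (Subgroup.mem_zpowers q))
      rw [← hQeq] at hm
      obtain ⟨i, hi⟩ := Subgroup.mem_zpowers_iff.1 hm
      have hfix : ((g⁻¹ * q * g⁻¹⁻¹ : G) : Perm α) a = a := by
        rw [← hi, Subgroup.coe_zpow]
        exact zpow_apply_eq_self_of_apply_eq_self ((hfixq a).2 rfl) i
      simp only [inv_inv, Subgroup.coe_mul, Subgroup.coe_inv, Perm.mul_apply] at hfix
      have := congrArg (g : Perm α) hfix
      simpa using this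
    set QH : Sylow 5 H := Q.subtype (le_trans Subgroup.le_normalizer hNH) with hQH
    have h6 : Nat.card (Sylow 5 H) = 6 := by
      have hmul := Small.card_normalizer_mul QH
      have hNeq : Nat.card (Subgroup.normalizer ((QH : Subgroup H) : Set H)) = 20 := by
        rw [hQH, Sylow.coe_subtype, ← Subgroup.subgroupOf_normalizer_eq (le_trans Subgroup.le_normalizer hNH),
          Nat.card_congr (Subgroup.subgroupOfEquivOfLe hNH).toEquiv, hN20]
      rw [hNeq, hH120] at hmul
      omega
    -- the kernel of the action on them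
    set act := MulAction.toPermHom H (Sylow 5 H) with hact
    have hK5 : ∀ g : H, g ∈ act.ker → g ∈ Subgroup.normalizer ((QH : Subgroup H) : Set H) := fun g hg => by
      rw [Sylow.coe_coe, ← Sylow.smul_eq_iff_mem_normalizer]
      exact DFunLike.congr_fun hg QH
    have hker5 : ¬ 5 ∣ Nat.card act.ker := by
      intro h5
      obtain ⟨y, hy⟩ := exists_prime_orderOf_dvd_card' 5 h5
      haveI : Subsingleton (Sylow 5 H) := ⟨fun R R' => by
        have key : ∀ R : Sylow 5 H, (R : Subgroup H) = Subgroup.zpowers (y : H) := fun R => by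
          have hR : Nat.card (R : Subgroup H) = 5 := by
            rw [Small.card_sylow 1 24 (by rw [hH120]; norm_num) (by norm_num) R, pow_one]
          refine (Subgroup.eq_of_le_of_card_ge ?_ (by rw [hR, Nat.card_zpowers, Subgroup.orderOf_coe, hy])).symm
          have hyN : (y : H) ∈ Subgroup.normalizer ((R : Subgroup H) : Set H) := by
            rw [Sylow.coe_coe, ← Sylow.smul_eq_iff_mem_normalizer]
            exact DFunLike.congr_fun (y.2 : act (y : H) = 1) R
          have hp : IsPGroup 5 (Subgroup.zpowers (y : H)) :=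
            IsPGroup.of_card (n := 1) (by rw [Nat.card_zpowers, Subgroup.orderOf_coe, hy, pow_one])
          have h := IsPGroup.inf_normalizer_sylow hp R
          have hle : Subgroup.zpowers (y : H) ≤ Subgroup.normalizer ((R : Subgroup H) : Set H) :=
            Subgroup.zpowers_le.2 hyN
          rw [Sylow.coe_coe] at hle
          rw [inf_eq_left.2 hle] at h
          exact inf_eq_left.1 h.symm
        exact Sylow.ext ((key R).trans (key R').symm)⟩
      rw [Nat.card_eq_one_iff_unique.2 ⟨inferInstance, ⟨QH⟩⟩] at h6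
      norm_num at h6
    set zH : H := ⟨z₀, hzH⟩ with hzHdef
    have hz10 : act zH ^ 10 = 1 := by
      rw [← map_pow]
      have : zH ^ 10 = 1 := Subtype.ext (by
        rw [Subgroup.coe_pow, Subgroup.coe_one, ← hzC]; exact pow_orderOf_eq_one z₀)
      rw [this, map_one]
    have hsker : zH ^ 5 ∈ act.ker := by
      haveI := Fintype.ofFinite (Sylow 5 H)
      let e : Sylow 5 H ≃ Fin 6 := Fintype.equivFinOfCardEq (by rw [← Nat.card_eq_fintype_card]; exact h6)
      rcases perm_six_ten (e.permCongrHom (act zH)) (by rw [← map_pow, hz10, map_one]) with h | h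
      · exfalso
        rw [← map_pow, ← map_one e.permCongrHom, EmbeddingLike.apply_eq_iff_eq, ← map_pow] at h
        apply hker5
        have ho : orderOf (zH ^ 2) = 5 := by
          rw [← Subgroup.orderOf_coe, Subgroup.coe_pow, ← Subgroup.orderOf_coe]
          exact hq
        exact (dvd_of_eq ho.symm).trans (Subgroup.orderOf_dvd_natCard _ (show zH ^ 2 ∈ act.ker from h))
      · rw [← map_pow, ← map_one e.permCongrHom, EmbeddingLike.apply_eq_iff_eq, ← map_pow] at h
        exact h
    have hK2 : ∀ g : H, g ∈ act.ker → (g : G) ∈ Subgroup.centralizer ((Q : Subgroup G) : Set G) := by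
      intro g hg
      refine Subgroup.mem_centralizer_iff.2 fun w hw => ?_
      have hwH : w ∈ H := le_trans Subgroup.le_normalizer hNH hw
      have hwQ : (⟨w, hwH⟩ : H) ∈ (QH : Subgroup H) := by
        rw [hQH, Sylow.coe_subtype]; exact hw
      have hdis : (QH : Subgroup H) ⊓ act.ker = ⊥ := by
        refine Subgroup.inf_eq_bot_of_coprime (Nat.Coprime.symm ?_)
        have hQ5 : Nat.card (QH : Subgroup H) = 5 := by
          rw [Small.card_sylow 1 24 (by rw [hH120]; norm_num) (by norm_num) QH, pow_one]
        rw [hQ5]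
        exact ((Nat.Prime.coprime_iff_not_dvd (by norm_num)).2 hker5).symm
      have hmem : (⟨w, hwH⟩ : H) * g * (⟨w, hwH⟩ : H)⁻¹ * g⁻¹ ∈ (QH : Subgroup H) ⊓ act.ker := by
        refine ⟨?_, act.ker.mul_mem (act.normal_ker.conj_mem g hg _) (act.ker.inv_mem hg)⟩
        have h1 := (Subgroup.mem_normalizer_iff.1 (hK5 g hg) (⟨w, hwH⟩ : H)⁻¹).1 ((QH : Subgroup H).inv_mem hwQ)
        have h2 := (QH : Subgroup H).mul_mem hwQ h1
        simp only [mul_assoc] at h2 ⊢
        exact h2
      rw [hdis, Subgroup.mem_bot, mul_inv_eq_one, mul_inv_eq_iff_eq_mul] at hmem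
      exact congrArg Subtype.val hmem
    have hscentral : ∀ g : H, g * zH ^ 5 = zH ^ 5 * g := by
      intro g
      have hc : g * zH ^ 5 * g⁻¹ ∈ act.ker := act.normal_ker.conj_mem _ hsker g
      -- the centraliser is cyclic of order ten
      have hCz : Subgroup.centralizer ((Q : Subgroup G) : Set G) = Subgroup.zpowers z₀ :=
        (Subgroup.eq_of_le_of_card_ge (Subgroup.zpowers_le.2 hzQ)
          (by rw [hC10, Nat.card_zpowers, hzC])).symm
      have hm := hK2 _ hc
      rw [hCz] at hm
      obtain ⟨i, hi⟩ := mem_powers_iff_mem_zpowers.2 hm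
      have hsq : (g * zH ^ 5 * g⁻¹) ^ 2 = 1 := by
        rw [conj_pow, ← pow_mul, show zH ^ (5 * 2) = 1 from Subtype.ext (by
          rw [Subgroup.coe_pow, Subgroup.coe_one, ← orderOf_dvd_iff_pow_eq_one, hzC]), mul_one,
          mul_inv_cancel]
      have hne : g * zH ^ 5 * g⁻¹ ≠ 1 := by
        rw [Ne, mul_inv_eq_one, mul_eq_left]
        intro e
        have e' : z₀ ^ 5 = 1 := congrArg Subtype.val e
        have := orderOf_dvd_of_pow_eq_one e'
        rw [hzC] at this
        norm_num at this
      have hi2 : z₀ ^ (i * 2) = 1 := by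
        rw [pow_mul]
        exact (congrArg (· ^ 2) hi).trans (congrArg Subtype.val hsq)
      have h5i : 5 ∣ i := by
        have := orderOf_dvd_of_pow_eq_one hi2
        rw [hzC, show (10 : ℕ) = 5 * 2 by norm_num] at this
        exact Nat.dvd_of_mul_dvd_mul_right (by norm_num) this
      obtain ⟨j, rfl⟩ := h5i
      have hj : j % 2 = 1 := by
        rcases Nat.mod_two_eq_zero_or_one j with h | h
        · exfalso
          obtain ⟨r, rfl⟩ : 2 ∣ j := Nat.dvd_of_mod_eq_zero h
          refine hne (Subtype.ext (hi.symm.trans ?_))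
          show z₀ ^ (5 * (2 * r)) = 1
          rw [← mul_assoc, pow_mul, show 5 * 2 = orderOf z₀ by rw [hzC], pow_orderOf_eq_one, one_pow]
        · exact h
      have e : g * zH ^ 5 * g⁻¹ = zH ^ 5 := Subtype.ext (by
        rw [Subgroup.coe_pow]
        refine hi.symm.trans ?_
        show z₀ ^ (5 * j) = z₀ ^ 5
        rw [← pow_mod_orderOf z₀ (5 * j), hzC]
        congr 1
        omega)
      exact mul_inv_eq_iff_eq_mul.1 e
    -- every conjugate of `s` normalises `P`
    have hcl : Subgroup.normalClosure ({s} : Set G) ≤ Subgroup.normalizer ((P : Subgroup G) : Set G) := by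
      rw [Subgroup.normalClosure, Subgroup.closure_le]
      intro w hw
      obtain ⟨_, hs', hconj⟩ := Group.mem_conjugatesOfSet_iff.1 hw
      rw [Set.mem_singleton_iff] at hs'
      subst hs'
      obtain ⟨g, rfl⟩ := isConj_iff.1 hconj
      obtain ⟨-, hxc, hxs⟩ := cycleType_eleven hα hx
      obtain ⟨i, hi⟩ := hxc.exists_pow_eq (mem_support.1 (hxs a)) (mem_support.1 (hxs ((g : Perm α) a)))
      set xi : G := ⟨x ^ i, pow_mem hxG i⟩ with hxi
      have hxiN : xi ∈ Subgroup.normalizer ((P : Subgroup G) : Set G) := by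
        refine Subgroup.le_normalizer ?_
        obtain ⟨y, hy, hyx⟩ := hPx.ge (Subgroup.mem_zpowers x)
        have : xi = y ^ i := Subtype.ext (by rw [Subgroup.coe_pow]; exact congrArg (· ^ i) hyx.symm)
        rw [this]
        exact pow_mem hy i
      have hgH : xi⁻¹ * g ∈ H := by
        show ((xi⁻¹ * g : G) : Perm α) a = a
        rw [Subgroup.coe_mul, Subgroup.coe_inv, Perm.mul_apply, ← hi]
        exact (x ^ i).symm_apply_apply a
      have hcomm : xi⁻¹ * g * s = s * (xi⁻¹ * g) :=
        congrArg Subtype.val (hscentral ⟨_, hgH⟩)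
      have e : g * s * g⁻¹ = xi * s * xi⁻¹ := by
        calc g * s * g⁻¹ = xi * (xi⁻¹ * g * s) * g⁻¹ := by group
          _ = xi * (s * (xi⁻¹ * g)) * g⁻¹ := by rw [hcomm]
          _ = xi * s * xi⁻¹ := by group
      show g * s * g⁻¹ ∈ Subgroup.normalizer ((P : Subgroup G) : Set G)
      rw [e]
      exact mul_mem (mul_mem hxiN (pow_mem hz₀ 5)) (inv_mem hxiN)
    set M := Subgroup.normalClosure ({s} : Set G) with hM
    have hM1 : M ≠ ⊥ := fun h => by
      have : s ∈ M := Subgroup.subset_normalClosure rfl
      rw [h, Subgroup.mem_bot] at this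
      rw [this, Subgroup.coe_one, orderOf_one] at hs
      norm_num at hs
    haveI := normal_transitive hα G M hM1
    have h11 : 11 ∣ Nat.card M := by
      have := eleven_dvd hα (M.map G.subtype)
      rwa [Subgroup.card_map_of_injective G.subtype_injective] at this
    obtain ⟨y, hy⟩ := exists_prime_orderOf_dvd_card' 11 h11
    have hyP : Subgroup.zpowers (y : G) = P := by
      have hp : IsPGroup 11 (Subgroup.zpowers (y : G)) :=
        IsPGroup.of_card (n := 1) (by rw [Nat.card_zpowers, Subgroup.orderOf_coe, hy, pow_one])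
      have hle : Subgroup.zpowers (y : G) ≤ P := by
        have h := IsPGroup.inf_normalizer_sylow hp P
        have hle : Subgroup.zpowers (y : G) ≤ Subgroup.normalizer ((P : Subgroup G) : Set G) :=
          Subgroup.zpowers_le.2 (hcl y.2)
        rw [Sylow.coe_coe] at hle
        rw [inf_eq_left.2 hle] at h
        exact inf_eq_left.1 h.symm
      exact Subgroup.eq_of_le_of_card_ge hle (by rw [hP, Nat.card_zpowers, Subgroup.orderOf_coe, hy])
    have hPM : (P : Subgroup G) ≤ M := hyP ▸ Subgroup.zpowers_le.2 y.2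
    have htop : Subgroup.normalizer ((P : Subgroup G) : Set G) = ⊤ := by
      refine top_le_iff.1 fun g _ => ?_
      rw [Sylow.coe_coe, ← Sylow.smul_eq_iff_mem_normalizer]
      have hle : ((g • P : Sylow 11 G) : Subgroup G) ≤ Subgroup.normalizer ((P : Subgroup G) : Set G) := by
        rw [Sylow.coe_subgroup_smul]
        intro w hw
        rw [Subgroup.mem_pointwise_smul_iff_inv_smul_mem] at hw
        refine hcl ?_
        have hm := hPM hw
        have := (Subgroup.normalClosure_normal (s := ({s} : Set G))).conj_mem _ hm g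
        simpa [MulAut.smul_def, mul_assoc, hM] using this
      have h := IsPGroup.inf_normalizer_sylow (g • P).2 P
      rw [Sylow.coe_coe] at hle
      rw [inf_eq_left.2 hle] at h
      exact Sylow.ext (Subgroup.eq_of_le_of_card_ge (inf_eq_left.1 h.symm)
        (by rw [(sylow_facts hα G (g • P)).1, hP]))
    rw [htop, Subgroup.card_top, hG1320] at hN
    norm_num at hN
  · -- order 15840
    obtain ⟨e, he⟩ := exists_relabel hα K hsimp h7920
    set φ := (e.permCongrHom).toMonoidHom with hφ
    have hφi : Function.Injective φ := e.permCongrHom.injective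
    have hstd : MEleven.stdGroup ≤ G.map φ := he ▸ Subgroup.map_mono hKG
    refine neg_not_mem (G.map φ) hstd ?_ ?_
    · rw [Subgroup.card_map_of_injective hφi, hG2, h7920]; norm_num
    have hshift : MEleven.stdShift ∈ MEleven.stdGroup := Subgroup.subset_closure (Or.inl rfl)
    rw [← he] at hshift
    obtain ⟨t, htK, hte⟩ := hshift
    have hshift11 : orderOf MEleven.stdShift = 11 := by
      rw [orderOf_eq_prime_iff]; decide +kernel
    have ht11 : orderOf t = 11 := by rw [← orderOf_injective φ hφi t, hte, hshift11]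
    obtain ⟨P', hP'⟩ := (IsPGroup.of_card (p := 11) (n := 1)
      (by rw [Nat.card_zpowers, ← Subgroup.orderOf_coe]; simp [ht11] :
        Nat.card (Subgroup.zpowers (⟨t, hKG htK⟩ : G)) = 11 ^ 1)).exists_le_sylow
    have hP'eq : Subgroup.zpowers (⟨t, hKG htK⟩ : G) = P' := Subgroup.eq_of_le_of_card_ge hP'
      (by rw [(sylow_facts hα G P').1, Nat.card_zpowers, ← Subgroup.orderOf_coe]; simp [ht11])
    have hN' : (Subgroup.normalizer ((P' : Subgroup G) : Set G)).map G.subtype =
        Subgroup.normalizer ((Subgroup.zpowers t : Subgroup (Perm α)) : Set (Perm α)) := by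
      refine Subgroup.eq_of_le_of_card_ge ?_ ?_
      · rw [show Subgroup.zpowers t = (P' : Subgroup G).map G.subtype by
          rw [← hP'eq, MonoidHom.map_zpowers]; rfl]
        exact Subgroup.le_normalizer_map G.subtype
      · rw [Subgroup.card_map_of_injective G.subtype_injective,
          show Nat.card (Subgroup.normalizer ((P' : Subgroup G) : Set G)) = 110 by
            rw [← hN]
            obtain ⟨k, hk⟩ := MulAction.exists_smul_eq G P P'
            have h1 := Small.card_normalizer_mul P'
            have h2 := Small.card_normalizer_mul P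
            exact Nat.eq_of_mul_eq_mul_left Nat.card_pos (h1.trans h2.symm)]
        exact Nat.le_of_dvd (by norm_num) (card_normalizer_dvd hα ht11)
    set τ := e.permCongrHom.symm MEleven.stdNeg with hτ
    have hτe : φ τ = MEleven.stdNeg := e.permCongrHom.apply_symm_apply _
    have hτN : τ ∈ Subgroup.normalizer ((Subgroup.zpowers t : Subgroup (Perm α)) : Set (Perm α)) := by
      have hconj : τ * t * τ⁻¹ = t⁻¹ := hφi (by
        rw [map_mul, map_mul, map_inv, map_inv, hτe, hte]; decide +kernel)
      refine Subgroup.mem_normalizer_iff.2 fun w => ⟨fun hw => ?_, fun hw => ?_⟩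
      · obtain ⟨i, rfl⟩ := Subgroup.mem_zpowers_iff.1 hw
        rw [← conj_zpow, hconj]
        exact Subgroup.zpow_mem _ (inv_mem (Subgroup.mem_zpowers t)) i
      · obtain ⟨i, hi⟩ := Subgroup.mem_zpowers_iff.1 hw
        refine Subgroup.mem_zpowers_iff.2 ⟨-i, ?_⟩
        have : w = τ⁻¹ * t ^ i * τ := by rw [hi]; group
        rw [this]
        have e2 : τ⁻¹ * t * τ = t⁻¹ := by
          have : t = τ⁻¹ * t⁻¹ * τ := by rw [← hconj]; group
          nth_rewrite 2 [this]
          group
        rw [show τ⁻¹ * t ^ i * τ = (τ⁻¹ * t * τ⁻¹⁻¹) ^ i by rw [conj_zpow, inv_inv], inv_inv, e2,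
          inv_zpow, ← zpow_neg]
    rw [← hN'] at hτN
    obtain ⟨g, -, hg⟩ := hτN
    exact ⟨τ, hg ▸ g.2, hτe⟩

end Cfsg.Lib.DegreeEleven
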