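import Cfsg.Agent.Lib.MEleven.Model

/-!
The standard group of order 7920 on the residues modulo 11 is 4-transitive, and together with the
negation it has a permutation with a 7-periodic point that is moved.
-/

set_option autoImplicit false

namespace Cfsg.Lib.DegreeEleven

open Cfsg.Lib.MEleven Equiv

/-- The value of a word in the shift (`0`), the multiplication by 3 (`1`) and the twist (`2`). -/
def wordVal : List (Fin 3) → Perm (ZMod 11)
  | [] => 1
  | c :: w => (if c = 0 then stdShift else if c = 1 then stdMult else stdTwist) * wordVal w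

theorem wordVal_mem : ∀ w, wordVal w ∈ stdGroup
  | [] => one_mem _
  | c :: w => by
    refine mul_mem ?_ (wordVal_mem w)
    fin_cases c <;>
      first
        | exact Subgroup.subset_closure (Or.inl rfl)
        | exact Subgroup.subset_closure (Or.inr (Or.inl rfl))
        | exact Subgroup.subset_closure (Or.inr (Or.inr rfl))

/-- Words taking `0` to each residue. -/
def words0 : List (List (Fin 3)) :=
  [[], [0], [0,0], [1,0], [0,1,0], [0,0,1,0], [1,0,0], [0,1,0,0], [0,0,1,0,0], [1,1,0], [2,1,0,0]]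

/-- Words fixing `0` taking `1` to each other residue. -/
def words1 : List (List (Fin 3)) :=
  [[], [2,0,0,2,0,0,0], [1], [2,1,1], [1,1,1], [0,2,1,0,0,1], [0,0,2,0,0,0], [0,2,1,0,2,0], [1,1],
    [0,2,2,0,0,1]]

/-- Words fixing `0`, `1` taking `2` to each other residue. -/
def words2 : List (List (Fin 3)) :=
  [[], [1,1,0,2,2,0,0], [0,2,0,1,1,1,0], [2,0,2,0,1,1,1,0], [2], [2,2,2], [0,0,2,2,2,0,1,0],
    [0,0,2,1,0,2], [2,2]]

/-- Words fixing `0`, `1`, `2` taking `3` to each other residue. -/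
def words3 : List (List (Fin 3)) :=
  [[], [1,0,2,0,1,2,0,0,0], [2,2,2,0,0,2,1,0], [0,2,1,0,0,2,1,2], [0,0,2,1,0,2,2],
    [0,2,2,0,0,2,1], [0,0,2,2,1,2,0,0,2,0], [1,2,0,0,1,2,2,0,1,0]]

theorem words0_spec : ∀ a : ZMod 11, ∃ w ∈ words0, wordVal w 0 = a := by decide +kernel

theorem words1_spec : ∀ a : ZMod 11, a ≠ 0 → ∃ w ∈ words1, wordVal w 0 = 0 ∧ wordVal w 1 = a := by
  decide +kernel

theorem words2_spec : ∀ a : ZMod 11, a ≠ 0 → a ≠ 1 →
    ∃ w ∈ words2, wordVal w 0 = 0 ∧ wordVal w 1 = 1 ∧ wordVal w 2 = a := by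
  decide +kernel

theorem words3_spec : ∀ a : ZMod 11, a ≠ 0 → a ≠ 1 → a ≠ 2 →
    ∃ w ∈ words3, wordVal w 0 = 0 ∧ wordVal w 1 = 1 ∧ wordVal w 2 = 2 ∧ wordVal w 3 = a := by
  decide +kernel

theorem exists_map_base (f : Fin 4 → ZMod 11) (hf : Function.Injective f) :
    ∃ g ∈ stdGroup, g 0 = f 0 ∧ g 1 = f 1 ∧ g 2 = f 2 ∧ g 3 = f 3 := by
  have hne : ∀ i j : Fin 4, i ≠ j → f i ≠ f j := fun i j h => hf.ne h
  obtain ⟨w, -, h0⟩ := words0_spec (f 0)
  obtain ⟨g, rfl⟩ : ∃ g, wordVal w = g := ⟨_, rfl⟩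
  have hg := wordVal_mem w
  set g := wordVal w
  have hs : ∀ {x y : ZMod 11} {σ : Perm (ZMod 11)}, σ.symm y = x → σ x = y := fun h => by
    rw [← h, Equiv.apply_symm_apply]
  obtain ⟨w₁, -, a0, a1⟩ := words1_spec (g.symm (f 1)) (fun h => hne 1 0 (by decide) (by rw [← h0]; exact (hs h).symm))
  set g₁ := g * wordVal w₁ with hg₁
  have b0 : g₁ 0 = f 0 := by rw [hg₁, Perm.mul_apply, a0, h0]
  have b1 : g₁ 1 = f 1 := by rw [hg₁, Perm.mul_apply, a1, Equiv.apply_symm_apply]
  obtain ⟨w₂, -, c0, c1, c2⟩ := words2_spec (g₁.symm (f 2))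
    (fun h => hne 2 0 (by decide) (by rw [← b0]; exact (hs h).symm))
    (fun h => hne 2 1 (by decide) (by rw [← b1]; exact (hs h).symm))
  set g₂ := g₁ * wordVal w₂ with hg₂
  have d0 : g₂ 0 = f 0 := by rw [hg₂, Perm.mul_apply, c0, b0]
  have d1 : g₂ 1 = f 1 := by rw [hg₂, Perm.mul_apply, c1, b1]
  have d2 : g₂ 2 = f 2 := by rw [hg₂, Perm.mul_apply, c2, Equiv.apply_symm_apply]
  obtain ⟨w₃, -, e0, e1, e2, e3⟩ := words3_spec (g₂.symm (f 3))
    (fun h => hne 3 0 (by decide) (by rw [← d0]; exact (hs h).symm))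
    (fun h => hne 3 1 (by decide) (by rw [← d1]; exact (hs h).symm))
    (fun h => hne 3 2 (by decide) (by rw [← d2]; exact (hs h).symm))
  refine ⟨g₂ * wordVal w₃, mul_mem (mul_mem (mul_mem hg (wordVal_mem _)) (wordVal_mem _)) (wordVal_mem _),
    ?_, ?_, ?_, ?_⟩
  · rw [Perm.mul_apply, e0, d0]
  · rw [Perm.mul_apply, e1, d1]
  · rw [Perm.mul_apply, e2, d2]
  · rw [Perm.mul_apply, e3, Equiv.apply_symm_apply]

/-- Any two injective 4-tuples of residues are related by an element of the standard group. -/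
theorem exists_map (f f' : Fin 4 → ZMod 11) (hf : Function.Injective f) (hf' : Function.Injective f') :
    ∃ g ∈ stdGroup, ∀ i, g (f i) = f' i := by
  obtain ⟨a, ha, a0, a1, a2, a3⟩ := exists_map_base f hf
  obtain ⟨b, hb, b0, b1, b2, b3⟩ := exists_map_base f' hf'
  refine ⟨b * a⁻¹, mul_mem hb (inv_mem ha), fun i => ?_⟩
  rw [Perm.mul_apply, Perm.inv_def]
  fin_cases i
  · simp only [Fin.zero_eta, Fin.isValue]; rw [← a0, Equiv.symm_apply_apply, b0]
  · simp only [Fin.mk_one, Fin.isValue]; rw [← a1, Equiv.symm_apply_apply, b1]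
  · show b (a.symm (f 2)) = f' 2; rw [← a2, Equiv.symm_apply_apply, b2]
  · show b (a.symm (f 3)) = f' 3; rw [← a3, Equiv.symm_apply_apply, b3]

theorem neg_word : (stdTwist * stdNeg * stdShift * stdShift : Perm (ZMod 11))^[7] 0 = 0 ∧
    (stdTwist * stdNeg * stdShift * stdShift : Perm (ZMod 11)) 0 ≠ 0 := by
  decide +kernel

/-- A group of order prime to 7 containing the standard group does not contain the negation. -/
theorem neg_not_mem (K : Subgroup (Perm (ZMod 11))) (hK : stdGroup ≤ K) (h7 : ¬ 7 ∣ Nat.card K) :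
    stdNeg ∉ K := by
  intro hn
  have hs : stdShift ∈ K := hK (Subgroup.subset_closure (Or.inl rfl))
  have ht : stdTwist ∈ K := hK (Subgroup.subset_closure (Or.inr (Or.inr rfl)))
  set σ : Perm (ZMod 11) := stdTwist * stdNeg * stdShift * stdShift with hσdef
  have hσ : σ ∈ K := mul_mem (mul_mem (mul_mem ht hn) hs) hs
  have h1 : Function.IsPeriodicPt σ 7 0 := neg_word.1
  have h2 : Function.IsPeriodicPt σ (Nat.card K) 0 := by
    show (⇑σ)^[Nat.card K] 0 = 0
    have h : σ ^ Nat.card K = 1 :=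
      congrArg Subtype.val (pow_card_eq_one' (x := (⟨σ, hσ⟩ : K)))
    rw [← Equiv.Perm.coe_pow, h, Equiv.Perm.one_apply]
  have h3 := h1.gcd h2
  rw [(Nat.Prime.coprime_iff_not_dvd (by norm_num : Nat.Prime 7)).2 h7] at h3
  exact neg_word.2 h3

end Cfsg.Lib.DegreeEleven
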